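import Mathlib
import Groth.Prelude.Def_EGA4b
import Groth.Prelude.Def_AssocGrMod

universe u

open DirectSum AssocGr

namespace Groth.Agent.GrFlatLib2

variable {A : Type u} [CommRing A] (I : Ideal A) (M : Type u) [AddCommGroup M] [Module A M]

abbrev Piece (n : ℕ) : Type u :=
  ↥(I ^ n • (⊤ : Submodule A M)) ⧸ (I • (⊤ : Submodule A ↥(I ^ n • (⊤ : Submodule A M))))

theorem mem_smul_top_iff' (n : ℕ) (x : ↥(I ^ n • (⊤ : Submodule A M))) :
    x ∈ (I • ⊤ : Submodule A ↥(I ^ n • (⊤ : Submodule A M))) ↔ (x : M) ∈ (Rees.powFilt I M).N (n + 1) := by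
  rw [Submodule.mem_smul_top_iff]
  show (x : M) ∈ I • (I ^ n • (⊤ : Submodule A M)) ↔ (x : M) ∈ I ^ (n + 1) • (⊤ : Submodule A M)
  rw [← Submodule.smul_assoc, smul_eq_mul, ← pow_succ']

def toN (n : ℕ) (x : ↥(I ^ n • (⊤ : Submodule A M))) : (Rees.powFilt I M).N n := ⟨x.1, x.2⟩

theorem coe_toN (n : ℕ) (x : ↥(I ^ n • (⊤ : Submodule A M))) : (toN I M n x : M) = (x : M) := rfl

noncomputable def monoLin (n : ℕ) : ↥(I ^ n • (⊤ : Submodule A M)) →ₗ[A] ReesM (Rees.powFilt I M) where
  toFun x := monomM (Rees.powFilt I M) n (toN I M n x)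
  map_add' x y := by
    refine ReesM.ext _ fun m => ?_
    rw [ReesM.coeff_add, ReesM.coeff_monomM, ReesM.coeff_monomM, ReesM.coeff_monomM]
    split_ifs <;> simp [coe_toN]
  map_smul' a x := by
    refine ReesM.ext _ fun m => ?_
    rw [RingHom.id_apply, ReesM.coeff_smul_base, ReesM.coeff_monomM, ReesM.coeff_monomM]
    split_ifs <;> simp [coe_toN]

noncomputable def piece (n : ℕ) : Piece I M n →ₗ[A] GrMod (Rees.powFilt I M) :=
  (I • (⊤ : Submodule A ↥(I ^ n • (⊤ : Submodule A M)))).liftQ (mkGM _ ∘ₗ monoLin I M n) fun x hx => by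
    show mkGM _ (monomM _ n (toN I M n x)) = 0
    rw [mkGM_eq_zero_iff]
    intro m
    rw [ReesM.coeff_monomM]
    split_ifs with h
    · subst h; exact (mem_smul_top_iff' I M n x).1 hx
    · exact Submodule.zero_mem _

open Classical in
noncomputable def toGr : (⨁ n, Piece I M n) →ₗ[A] GrMod (Rees.powFilt I M) :=
  DirectSum.toModule A ℕ _ (piece I M)

theorem toGr_bijective : Function.Bijective (toGr I M) := by
  classical
  refine ⟨?_, ?_⟩
  · suffices H : ∀ v, toGr I M v = 0 → v = 0 by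
      intro a b h
      exact sub_eq_zero.1 (H _ ((LinearMap.map_sub (toGr I M) a b).trans (sub_eq_zero.2 h)))
    intro v hv
    choose r hr using fun n => Submodule.mkQ_surjective (I • (⊤ : Submodule A ↥(I ^ n • (⊤ : Submodule A M)))) (v n)
    have hsum : toGr I M v = mkGM _ (∑ n ∈ DFinsupp.support v, monoLin I M n (r n)) := by
      conv_lhs => rw [← DirectSum.sum_support_of v]
      rw [map_sum, map_sum]
      refine Finset.sum_congr rfl fun n _ => ?_
      rw [← DirectSum.lof_eq_of A, toGr, DirectSum.toModule_lof, ← hr n]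
      rfl
    rw [hsum, mkGM_eq_zero_iff] at hv
    apply DFinsupp.ext
    intro m
    by_cases hm : m ∈ DFinsupp.support v
    · have h := hv m
      rw [← ReesM.coeffHom_apply, map_sum] at h
      simp only [ReesM.coeffHom_apply] at h
      rw [Finset.sum_eq_single m (fun b _ hb => by
        show ReesM.coeff _ (monomM _ b (toN I M b (r b))) m = 0
        rw [ReesM.coeff_monomM, if_neg hb]) (fun h' => absurd hm h')] at h
      change ReesM.coeff _ (monomM _ m (toN I M m (r m))) m ∈ _ at h
      rw [ReesM.coeff_monomM, if_pos rfl] at h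
      rw [DirectSum.zero_apply, ← hr m]
      exact (Submodule.Quotient.mk_eq_zero _).2 ((mem_smul_top_iff' I M m (r m)).2 h)
    · simpa using hm
  · intro x
    obtain ⟨y, rfl⟩ := mkGM_surjective _ x
    rw [← sum_termM _ y, map_sum]
    refine LinearMap.mem_range.1 (Submodule.sum_mem _ fun n _ => ?_)
    exact ⟨DirectSum.lof A ℕ (Piece I M) n (Submodule.Quotient.mk ⟨_, ReesM.coeff_mem _ y n⟩), by
      rw [toGr, DirectSum.toModule_lof]; rfl⟩

noncomputable def equivQuot : (⨁ n, Piece I M n) ≃ₗ[A ⧸ I] GrMod (Rees.powFilt I M) :=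
  { LinearEquiv.ofBijective (toGr I M) (toGr_bijective I M) with
    map_smul' := fun a x => by
      obtain ⟨a, rfl⟩ := Ideal.Quotient.mk_surjective a
      show toGr I M (Ideal.Quotient.mk I a • x) = Ideal.Quotient.mk I a • toGr I M x
      have h : ∀ y : ⨁ n, Piece I M n, Ideal.Quotient.mk I a • y = a • y := fun y => by
        apply DFinsupp.ext
        intro n
        rfl
      rw [h, map_smul]
      obtain ⟨z, hz⟩ := mkGM_surjective _ (toGr I M x)
      rw [← hz, mk_smul_mkGM, map_smul] }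

theorem isNormallyFlat_iff :
    EGA4.IsNormallyFlat I M ↔ Module.Flat (A ⧸ I) (GrMod (Rees.powFilt I M)) := by
  rw [← Module.Flat.equiv_iff (equivQuot I M), Module.Flat.directSum_iff]
  rfl

end Groth.Agent.GrFlatLib2
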